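import Groth.Agent.H4DR.TorAmp.Residue
import Mathlib.RingTheory.Localization.Finiteness

/-!
# Splitting a complex at a degree where a fibre is exact
-/

set_option autoImplicit false
set_option linter.style.haveILetI false

universe u

open TensorProduct

namespace Groth.Agent.H4DR.Split

variable {R k : Type u} [CommRing R] [Field k] [Algebra R k]

lemma exists_scalar (hk : ∀ z : k, ∃ s r : R, algebraMap R k s ≠ 0 ∧ algebraMap R k s * z = algebraMap R k r)
    {M : Type u} [AddCommGroup M] [Module R M] (t : k ⊗[R] M) :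
    ∃ s : R, algebraMap R k s ≠ 0 ∧ s • t ∈ LinearMap.range (TensorProduct.mk R k M 1) := by
  induction t using TensorProduct.induction_on with
  | zero => exact ⟨1, by simp, by simp⟩
  | tmul z m =>
    obtain ⟨s, r, hs, h⟩ := hk z
    refine ⟨s, hs, r • m, ?_⟩
    rw [TensorProduct.mk_apply, TensorProduct.smul_tmul', ← TensorProduct.smul_tmul,
      Algebra.smul_def, Algebra.smul_def, h, mul_one]
  | add a b ha hb =>
    obtain ⟨s, hs, ha⟩ := ha
    obtain ⟨s', hs', hb⟩ := hb
    refine ⟨s * s', by rw [map_mul]; exact mul_ne_zero hs hs', ?_⟩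
    rw [smul_add]
    refine add_mem ?_ ?_
    · rw [mul_comm, mul_smul]; exact Submodule.smul_mem _ _ ha
    · rw [mul_smul]; exact Submodule.smul_mem _ _ hb

/-- A map of fibres lifts up to a nonzero scalar. -/
lemma exists_lift (hk : ∀ z : k, ∃ s r : R, algebraMap R k s ≠ 0 ∧ algebraMap R k s * z = algebraMap R k r)
    {B C : Type u} [AddCommGroup B] [Module R B] [AddCommGroup C] [Module R C] [Module.Finite R C]
    [Module.Projective R C] (e : k ⊗[R] C →ₗ[k] k ⊗[R] B) :
    ∃ (s : R) (h : C →ₗ[R] B), algebraMap R k s ≠ 0 ∧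
      h.baseChange k = algebraMap R k s • e := by
  classical
  obtain ⟨n, x, hx⟩ := Module.Finite.exists_fin (R := R) (M := C)
  choose s hs hmem using fun j => exists_scalar hk (e (1 ⊗ₜ[R] x j))
  let c := ∏ j, s j
  have hc : algebraMap R k c ≠ 0 := by
    rw [map_prod]; exact Finset.prod_ne_zero_iff.2 fun j _ => hs j
  let ψ : C →ₗ[R] k ⊗[R] B := c • ((e.restrictScalars R) ∘ₗ TensorProduct.mk R k C 1)
  have hψ : ∀ y, ψ y ∈ LinearMap.range (TensorProduct.mk R k B 1) := fun y => by
    have hy : y ∈ Submodule.span R (Set.range x) := by rw [hx]; exact Submodule.mem_top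
    induction hy using Submodule.span_induction with
    | mem y hy =>
      obtain ⟨j, rfl⟩ := hy
      change c • e (1 ⊗ₜ[R] x j) ∈ _
      obtain ⟨d, hd⟩ := Finset.dvd_prod_of_mem s (Finset.mem_univ j)
      rw [show c = d * s j by rw [mul_comm]; exact hd, mul_smul]
      exact Submodule.smul_mem _ _ (hmem j)
    | zero => rw [map_zero]; exact zero_mem _
    | add a b _ _ ha hb => rw [map_add]; exact add_mem ha hb
    | smul r a _ ha => rw [map_smul]; exact Submodule.smul_mem _ _ ha
  obtain ⟨h, hh⟩ := Module.projective_lifting_property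
    (TensorProduct.mk R k B 1).rangeRestrict (ψ.codRestrict _ hψ) (LinearMap.surjective_rangeRestrict _)
  refine ⟨c, h, hc, TensorProduct.AlgebraTensorModule.ext fun z y => ?_⟩
  have h1 : (1 : k) ⊗ₜ[R] h y = c • e (1 ⊗ₜ[R] y) := congrArg Subtype.val (LinearMap.congr_fun hh y)
  rw [LinearMap.baseChange_tmul, LinearMap.smul_apply, algebraMap_smul,
    show z ⊗ₜ[R] h y = z • ((1 : k) ⊗ₜ[R] h y) by rw [TensorProduct.smul_tmul', smul_eq_mul, mul_one],
    h1, show z ⊗ₜ[R] y = z • ((1 : k) ⊗ₜ[R] y) by rw [TensorProduct.smul_tmul', smul_eq_mul, mul_one],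
    map_smul, smul_comm]

/-- Exactness at a fibre: cocycles into any module are, up to a scalar not vanishing at the fibre,
coboundaries. -/
theorem exists_smul_factor (hk : ∀ z : k, ∃ s r : R, algebraMap R k s ≠ 0 ∧ algebraMap R k s * z = algebraMap R k r)
    {A B C : Type u} [AddCommGroup A] [Module R A] [AddCommGroup B] [Module R B] [AddCommGroup C] [Module R C]
    [Module.Finite R B] [Module.Free R B] [Module.Finite R C] [Module.Projective R C]
    (f : A →ₗ[R] B) (g : B →ₗ[R] C) (hgf : g ∘ₗ f = 0)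
    (hex : Function.Exact (f.baseChange k) (g.baseChange k)) :
    ∃ δ : R, algebraMap R k δ ≠ 0 ∧ ∀ (N : Type u) [AddCommGroup N] [Module R N] (ψ : B →ₗ[R] N),
      ψ ∘ₗ f = 0 → ∃ k' : C →ₗ[R] N, δ • ψ = k' ∘ₗ g := by
  set F := f.baseChange k with hF
  set G := g.baseChange k with hG
  letI : AddCommGroup (LinearMap.range F) := Submodule.addCommGroup _
  haveI : Module.Free k (LinearMap.range F) := Module.Free.of_divisionRing k (LinearMap.range F)
  obtain ⟨s, hs'⟩ := F.rangeRestrict.exists_rightInverse_of_surjective F.range_rangeRestrict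
  obtain ⟨p, hp⟩ := LinearMap.exists_extend (LinearMap.id : LinearMap.range F →ₗ[k] LinearMap.range F)
  let ε : k ⊗[R] B →ₗ[k] k ⊗[R] B := LinearMap.id - F ∘ₗ s ∘ₗ p
  have hε : LinearMap.ker G ≤ LinearMap.ker ε := fun x hx => by
    obtain ⟨a, rfl⟩ := (hex x).1 (LinearMap.mem_ker.1 hx)
    have h1 : p (F a) = ⟨F a, LinearMap.mem_range_self F a⟩ :=
      LinearMap.congr_fun hp ⟨F a, LinearMap.mem_range_self F a⟩
    have h2 : F (s ⟨F a, LinearMap.mem_range_self F a⟩) = F a :=
      congrArg Subtype.val (LinearMap.congr_fun hs' ⟨F a, LinearMap.mem_range_self F a⟩)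
    rw [LinearMap.mem_ker]
    show F a - F (s (p (F a))) = 0
    rw [h1, h2, sub_self]
  obtain ⟨e, he⟩ := LinearMap.exists_extend
    (Submodule.liftQ _ ε hε ∘ₗ (G.quotKerEquivRange.symm : LinearMap.range G →ₗ[k] _))
  have he' : ∀ x, e (G x) = ε x := fun x => by
    refine (LinearMap.congr_fun he ⟨G x, LinearMap.mem_range_self G x⟩).trans ?_
    show Submodule.liftQ _ ε hε (G.quotKerEquivRange.symm ⟨G x, _⟩) = _
    rw [LinearMap.quotKerEquivRange_symm_apply_image, Submodule.mkQ_apply, Submodule.liftQ_apply]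
  obtain ⟨c₂, h₂, hc₂, hh₂⟩ := exists_lift hk e
  obtain ⟨c₀, h₁, hc₀, hh₁⟩ : ∃ (c : R) (h₁ : B →ₗ[R] A), algebraMap R k c ≠ 0 ∧
      h₁.baseChange k = algebraMap R k c • (s ∘ₗ p) := exists_lift hk (s ∘ₗ p)
  let θ : B →ₗ[R] B := c₂ • (f ∘ₗ h₁) + c₀ • (h₂ ∘ₗ g)
  have hθ : θ.baseChange k = algebraMap R k (c₂ * c₀) • LinearMap.id := by
    rw [LinearMap.baseChange_add, LinearMap.baseChange_smul, LinearMap.baseChange_smul,
      LinearMap.baseChange_comp, LinearMap.baseChange_comp, hh₁, hh₂]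
    refine LinearMap.ext fun x => ?_
    show c₂ • F (algebraMap R k c₀ • s (p x)) + c₀ • (algebraMap R k c₂ • e (G x)) =
      algebraMap R k (c₂ * c₀) • x
    rw [map_smul, he', algebraMap_smul, algebraMap_smul, algebraMap_smul, smul_smul, smul_smul,
      mul_comm c₀ c₂]
    show _ + _ • (x - F (s (p x))) = _
    rw [smul_sub]
    exact add_sub_cancel _ _
  refine ⟨θ.charpoly.coeff 0, ?_, fun N _ _ ψ hψ => ?_⟩
  · have h := LinearMap.det_eq_sign_charpoly_coeff (θ.baseChange k)
    rw [LinearMap.charpoly_baseChange, Polynomial.coeff_map, hθ, LinearMap.det_smul, LinearMap.det_id,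
      mul_one] at h
    intro h0
    rw [h0, mul_zero] at h
    exact pow_ne_zero _ (by rw [map_mul]; exact mul_ne_zero hc₂ hc₀) h
  · obtain ⟨q, hq⟩ := TorAmp.exists_comp_eq_smul θ
    have hgθ : g ∘ₗ θ = (c₀ • (g ∘ₗ h₂)) ∘ₗ g := by
      refine LinearMap.ext fun x => ?_
      have : g (f (h₁ x)) = 0 := LinearMap.congr_fun hgf _
      simp [θ, this]
    obtain ⟨Q, hQ⟩ : ∃ Q : C →ₗ[R] C, g ∘ₗ Polynomial.aeval θ q = Q ∘ₗ g := by
      clear hq
      induction q using Polynomial.induction_on' with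
      | add a b ha hb =>
        obtain ⟨Qa, ha⟩ := ha
        obtain ⟨Qb, hb⟩ := hb
        exact ⟨Qa + Qb, by rw [map_add, LinearMap.comp_add, ha, hb, LinearMap.add_comp]⟩
      | monomial n a =>
        suffices h : ∃ Q : C →ₗ[R] C, g ∘ₗ (θ ^ n) = Q ∘ₗ g by
          obtain ⟨Q, hQ⟩ := h
          exact ⟨a • Q, by rw [Polynomial.aeval_monomial, Algebra.algebraMap_eq_smul_one, smul_one_mul,
            LinearMap.comp_smul, hQ, LinearMap.smul_comp]⟩
        induction n with
        | zero => exact ⟨LinearMap.id, by simp [Module.End.one_eq_id]⟩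
        | succ n ih =>
          obtain ⟨Q, hQ⟩ := ih
          refine ⟨Q ∘ₗ (c₀ • (g ∘ₗ h₂)), ?_⟩
          rw [pow_succ, Module.End.mul_eq_comp, ← LinearMap.comp_assoc, hQ, LinearMap.comp_assoc, hgθ,
            LinearMap.comp_assoc]
    refine ⟨(c₀ • (ψ ∘ₗ h₂)) ∘ₗ Q, LinearMap.ext fun x => ?_⟩
    have h1 : θ (Polynomial.aeval θ q x) = θ.charpoly.coeff 0 • x := LinearMap.congr_fun hq x
    have h2 : Q (g x) = g (Polynomial.aeval θ q x) := (LinearMap.congr_fun hQ x).symm
    have h3 : ∀ y, ψ (f y) = 0 := fun y => LinearMap.congr_fun hψ y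
    rw [LinearMap.smul_apply, ← map_smul, ← h1, LinearMap.comp_apply, LinearMap.comp_apply, h2]
    simp [θ, h3]

end Groth.Agent.H4DR.Split
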