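import Groth.Agent.H4DR.Split.Fibre
import Groth.Agent.H4DR.FlatBC.Basic
import Groth.Agent.H4DR.Hom.Split
import Groth.Agent.H4DR.TorAmp.PerfectChange
import Groth.Agent.S7004
import Groth.Agent.S6976
import Groth.Agent.S6937

/-!
# Splitting off the truncation near a prime with exact fibre
-/

set_option autoImplicit false
set_option linter.style.haveILetI false

universe u

open CategoryTheory CategoryTheory.Limits TensorProduct

attribute [local instance] HasDerivedCategory.standard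

namespace Groth.Agent.H4DR.Split

variable {R : Type u} [CommRing R]

theorem exists_factor_scalar {k : Type u} [Field k] (φ : R →+* k)
    (hk : ∀ z : k, ∃ s r : R, φ s ≠ 0 ∧ φ s * z = φ r) {P : DRing.Cx R} (hP : DRing.TermwiseFiniteFree P)
    (i : ℤ) (hex : (((ModuleCat.extendScalars.{u, u, u} φ).mapHomologicalComplex
      (ComplexShape.up ℤ)).obj P).ExactAt i) :
    ∃ δ : R, φ δ ≠ 0 ∧ ∀ (N : ModuleCat.{u} R) (ψ : P.X i ⟶ N), P.d (i - 1) i ≫ ψ = 0 →
      ∃ k' : P.X (i + 1) ⟶ N, δ • ψ = P.d i (i + 1) ≫ k' := by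
  letI : Algebra R k := φ.toAlgebra
  haveI := (hP i).1
  haveI := (hP i).2
  haveI := (hP (i + 1)).1
  haveI := (hP (i + 1)).2
  rw [HomologicalComplex.exactAt_iff' _ (i - 1) i (i + 1) (by simp) (by simp),
    ShortComplex.ShortExact.moduleCat_exact_iff_function_exact] at hex
  obtain ⟨δ, hδ, h⟩ := exists_smul_factor (k := k) hk (P.d (i - 1) i).hom (P.d i (i + 1)).hom
    (ModuleCat.hom_ext_iff.1 (P.d_comp_d (i - 1) i (i + 1))) hex
  refine ⟨δ, hδ, fun N ψ hψ => ?_⟩
  obtain ⟨k', hk'⟩ := h N ψ.hom (ModuleCat.hom_ext_iff.1 hψ)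
  exact ⟨ModuleCat.ofHom k', ModuleCat.hom_ext hk'⟩

theorem factor_baseChange {A : Type u} [CommRing A] (φ : R →+* A) {P : DRing.Cx R} (i : ℤ) {δ : R}
    (hu : IsUnit (φ δ))
    (h : ∀ (N : ModuleCat.{u} R) (ψ : P.X i ⟶ N), P.d (i - 1) i ≫ ψ = 0 →
      ∃ k' : P.X (i + 1) ⟶ N, δ • ψ = P.d i (i + 1) ≫ k')
    (M : ModuleCat.{u} A)
    (ψ : (ModuleCat.extendScalars.{u, u, u} φ).obj (P.X i) ⟶ M)
    (hψ : (ModuleCat.extendScalars.{u, u, u} φ).map (P.d (i - 1) i) ≫ ψ = 0) :
    ∃ k : (ModuleCat.extendScalars.{u, u, u} φ).obj (P.X (i + 1)) ⟶ M,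
      ψ = (ModuleCat.extendScalars.{u, u, u} φ).map (P.d i (i + 1)) ≫ k := by
  let adj := ModuleCat.extendRestrictScalarsAdj.{u, u, u} φ
  let ψ' := adj.homEquiv _ _ ψ
  have hψ' : P.d (i - 1) i ≫ ψ' = 0 := by
    refine (adj.homEquiv_naturality_left _ _).symm.trans ?_
    rw [hψ, Adjunction.homEquiv_unit, Functor.map_zero, comp_zero]
  obtain ⟨k', hk'⟩ := h _ ψ' hψ'
  obtain ⟨w, hw⟩ := hu.exists_left_inv
  let t : (ModuleCat.restrictScalars.{u} φ).obj M ⟶ (ModuleCat.restrictScalars.{u} φ).obj M :=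
    (ModuleCat.restrictScalars.{u} φ).map (w • 𝟙 M)
  refine ⟨(adj.homEquiv _ _).symm (k' ≫ t), ?_⟩
  rw [← adj.homEquiv_naturality_left_symm, ← Category.assoc, ← hk', Equiv.eq_symm_apply]
  refine ModuleCat.hom_ext (LinearMap.ext fun x => ?_)
  change (ψ'.hom x : M) = w • (φ δ • (ψ'.hom x : M))
  rw [smul_smul, hw, one_smul]

theorem extendScalars_finite_free {A : Type u} [CommRing A] (φ : R →+* A) (M : ModuleCat.{u} R)
    [Module.Finite R M] [Module.Free R M] :
    Module.Finite A ((ModuleCat.extendScalars.{u, u, u} φ).obj M) ∧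
      Module.Free A ((ModuleCat.extendScalars.{u, u, u} φ).obj M) := by
  letI := φ.toAlgebra
  exact ⟨inferInstanceAs (Module.Finite A (A ⊗[R] M)), inferInstanceAs (Module.Free A (A ⊗[R] M))⟩

variable (p : Ideal R) [p.IsPrime]

theorem hk_residueField (z : p.ResidueField) :
    ∃ s r : R, algebraMap R p.ResidueField s ≠ 0 ∧
      algebraMap R p.ResidueField s * z = algebraMap R p.ResidueField r := by
  obtain ⟨a, b, hb, hz⟩ := IsFractionRing.div_surjective (A := R ⧸ p) z
  obtain ⟨r, rfl⟩ := Ideal.Quotient.mk_surjective a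
  obtain ⟨s, rfl⟩ := Ideal.Quotient.mk_surjective b
  have hs : algebraMap R p.ResidueField s ≠ 0 := by
    rw [IsScalarTower.algebraMap_apply R (R ⧸ p) p.ResidueField]
    exact IsFractionRing.to_map_ne_zero_of_mem_nonZeroDivisors hb
  refine ⟨s, r, hs, ?_⟩
  rw [← hz, IsScalarTower.algebraMap_apply R (R ⧸ p) p.ResidueField s,
    IsScalarTower.algebraMap_apply R (R ⧸ p) p.ResidueField r]
  rw [IsScalarTower.algebraMap_apply R (R ⧸ p) p.ResidueField] at hs
  exact mul_div_cancel₀ _ hs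

/-- Splitting near `p`. -/
theorem exists_away (i : ℤ) [DRing.HasLBaseChange (algebraMap R p.ResidueField)] (K : DRing.Cx R)
    (hK : DRing.IsPseudoCoherent' R (DRing.toD K))
    (hi : Subsingleton (Dual.HD p.ResidueField
      ((DRing.LBaseChange (algebraMap R p.ResidueField)).obj (DRing.toD K)) i)) :
    ∃ f : R, f ∉ p ∧
      let Kf := DRing.toD (((ModuleCat.extendScalars (algebraMap R (Localization.Away f))).mapHomologicalComplex
        (ComplexShape.up ℤ)).obj K)
      DRing.IsPseudoCoherent' (Localization.Away f) Kf ∧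
        ∀ (M : Type u) [AddCommGroup M] [Module (Localization.Away f) M],
          Subsingleton (Kf ⟶ (Dual.inD (Localization.Away f) M)⟦-i⟧) := by
  obtain ⟨P, c, hb, hF, ⟨e⟩⟩ := hK
  have hflat : DRing.TermwiseFlat P := fun j => haveI := (hF j).2; inferInstance
  have hex := (TorAmp.subsingleton_HD_toD_iff _ i).1 (PCoh.hEquiv i ((TorAmp.lbaseObj (algebraMap R p.ResidueField) P
    (TorAmp.isKFlat_of_flat hb hflat)).symm ≪≫ (DRing.LBaseChange _).mapIso e)).injective.subsingleton
  obtain ⟨f, hf, hfac⟩ := exists_factor_scalar (algebraMap R p.ResidueField) (hk_residueField p) hF i hex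
  refine ⟨f, fun h => hf (Ideal.algebraMap_residueField_eq_zero.2 h), ?_⟩
  haveI : Module.Flat R (Localization.Away f) := IsLocalization.flat _ (Submonoid.powers f)
  let G := FlatBC.F R (Localization.Away f)
  haveI : G.Additive :=
    (ModuleCat.extendRestrictScalarsAdj.{u, u, u} (algebraMap R (Localization.Away f))).left_adjoint_additive
  let Q := (G.mapHomologicalComplex (ComplexShape.up ℤ)).obj P
  let eQ : DRing.toD Q ≅ DRing.toD ((G.mapHomologicalComplex (ComplexShape.up ℤ)).obj K) :=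
    (G.mapDerivedCategoryFactors.app P).symm ≪≫ G.mapDerivedCategory.mapIso e ≪≫
      G.mapDerivedCategoryFactors.app K
  have hQb : DRing.VanishesAbove Q c := fun j hj => G.map_isZero (hb j hj)
  have hQF : DRing.TermwiseFiniteFree Q := fun j => by
    haveI := (hF j).1
    haveI := (hF j).2
    exact extendScalars_finite_free (algebraMap R (Localization.Away f)) (P.X j)
  refine ⟨⟨Q, c, hQb, hQF, ⟨eQ⟩⟩, fun M _ _ => ?_⟩
  refine (Hom.subsingleton_iff_factor (c := c) ⟨hQb, fun j => haveI := (hQF j).2; inferInstance⟩ eQ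
    (ModuleCat.of _ M) i (-i) (neg_add_cancel i)).2 fun ψ hψ => ?_
  exact factor_baseChange (algebraMap R (Localization.Away f)) i
    (IsLocalization.Away.algebraMap_isUnit f) hfac _ ψ hψ

end Groth.Agent.H4DR.Split
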